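import Groth.Agent.Lib.Wiebe.Link
import Mathlib.RingTheory.Regular.RegularSequence
import Mathlib.RingTheory.Nakayama

/-! In a Noetherian ring, a Koszul-acyclic family inside the Jacobson radical is a regular sequence. -/

set_option autoImplicit false

universe u

namespace Groth.Agent.Lib.Wiebe.AcycRegular

open Groth.Agent.Lib.TorObstruction.Cube Groth.Agent.Lib.Wiebe.Exterior Groth.Agent.Lib.Wiebe.Link
open RingTheory.Sequence

variable {Q : Type u} [CommRing Q]

/-- Two faces as one vector. -/
def pair {m : ℕ} (F T : V Q m) : V Q (m + 1) :=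
  glue (LinearMap.fst Q (V Q m) (V Q m)) (LinearMap.snd Q (V Q m) (V Q m)) (F, T)

theorem face_pair_false {m : ℕ} (F T : V Q m) : face false (pair F T) = F := by
  simp [pair, face_glue]

theorem face_pair_true {m : ℕ} (F T : V Q m) : face true (pair F T) = T := by
  simp [pair, face_glue]

theorem apply_O_succ {m : ℕ} (z : V Q (m + 1)) : z (O (m + 1)) = face false z (O m) := by
  rw [← cons_O m]
  rfl

variable [IsNoetherianRing Q]

theorem acyc_tail {m : ℕ} (f : Fin (m + 1) → Q) (hf : Acyc f)
    (hmem : f 0 ∈ (⊥ : Ideal Q).jacobson) : Acyc (Fin.tail f) := by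
  let t := Fin.tail f
  let Z : Submodule Q (V Q m) :=
    { carrier := {z | opI t z = 0 ∧ z (O m) = 0}
      zero_mem' := ⟨map_zero _, rfl⟩
      add_mem' := fun ha hb => ⟨by rw [map_add, ha.1, hb.1, add_zero], by
        rw [Pi.add_apply, ha.2, hb.2, add_zero]⟩
      smul_mem' := fun r z hz => ⟨by rw [map_smul, hz.1, smul_zero], by
        rw [Pi.smul_apply, hz.2, smul_zero]⟩ }
  suffices h : Z ≤ LinearMap.range (opI t) from fun z hz hzO => h ⟨hz, hzO⟩
  refine Submodule.le_of_le_smul_of_le_jacobson_bot (I := Ideal.span {f 0}) (IsNoetherian.noetherian Z)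
    ((Ideal.span_singleton_le_iff_mem _).2 hmem) fun z hz => ?_
  obtain ⟨w, hw⟩ := hf (pair z 0) (by
    refine ext_face ?_ ?_
    · rw [face_opI_false, face_pair_false, face_pair_true, hz.1, smul_zero, add_zero, map_zero]
    · rw [face_opI_true, face_pair_true, map_zero, neg_zero, map_zero]) (by
    refine (apply_O_succ (pair z 0)).trans ?_
    rw [face_pair_false]
    exact hz.2)
  have h1 : opI t (face false w) + f 0 • face true w = z := by
    rw [← face_opI_false, hw, face_pair_false]
  have h2 : opI t (face true w) = 0 := by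
    have := face_opI_true f w
    rw [hw, face_pair_true] at this
    exact neg_eq_zero.1 this.symm
  have hP : z = opI t (face false w - P 1 (face false w)) +
      f 0 • (face true w - P 0 (face true w)) := by
    have h3 : P 0 z = 0 := by rw [P_zero_eq, hz.2, zero_smul]
    rw [map_sub, ← P_opI t 0, smul_sub, sub_add_sub_comm, h1, ← map_smul, ← map_add, h1, h3, sub_zero]
  rw [hP]
  refine Submodule.add_mem_sup (LinearMap.mem_range_self _ _)
    (Submodule.smul_mem_smul (Ideal.mem_span_singleton_self _) ⟨?_, ?_⟩)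
  · rw [map_sub, h2, opI_P_zero, sub_zero]
  · rw [Pi.sub_apply, P_apply, if_pos (wt_O m), sub_self]

theorem mem_of_mul_mem {m : ℕ} (f : Fin (m + 1) → Q) (hf : Acyc f) {a : Q}
    (ha : f 0 * a ∈ Ideal.span (Set.range (Fin.tail f))) :
    a ∈ Ideal.span (Set.range (Fin.tail f)) := by
  obtain ⟨v, hv, hvO⟩ := exists_preimage_O (Fin.tail f) ha
  obtain ⟨w, hw⟩ := hf (pair v (-(a • delta Q m))) (by
    refine ext_face ?_ ?_
    · rw [face_opI_false, face_pair_false, face_pair_true, hv, smul_neg, smul_smul, add_neg_cancel,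
        map_zero]
    · rw [face_opI_true, face_pair_true, map_neg, map_smul, opI_delta, smul_zero, neg_zero, neg_zero,
        map_zero]) (by
    refine (apply_O_succ _).trans ?_
    rw [face_pair_false]
    exact hvO)
  have h := face_opI_true f w
  rw [hw, face_pair_true, neg_inj] at h
  have h' := congrFun h (O m)
  rw [Pi.smul_apply, show delta Q m (O m) = 1 from if_pos rfl, smul_eq_mul, mul_one] at h'
  rw [h']
  exact opI_mem _ _ _

theorem isWeaklyRegular_reverse : ∀ {n : ℕ} (f : Fin n → Q), Acyc f →
    (∀ i, f i ∈ (⊥ : Ideal Q).jacobson) → IsWeaklyRegular Q (List.ofFn f).reverse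
  | 0, f, _, _ => by simp
  | m + 1, f, hf, hmem => by
    have ih := isWeaklyRegular_reverse (Fin.tail f) (acyc_tail f hf (hmem 0)) fun i => hmem i.succ
    rw [List.ofFn_succ, List.reverse_cons, isWeaklyRegular_append_iff]
    refine ⟨ih, (isWeaklyRegular_singleton_iff _ _).2 ?_⟩
    have hspan : (Ideal.ofList (List.ofFn fun i : Fin m => f i.succ).reverse • ⊤ : Submodule Q Q) =
        Ideal.span (Set.range (Fin.tail f)) := by
      rw [smul_eq_mul, Ideal.mul_top, Ideal.ofList]
      congr 1
      ext x
      simp only [List.mem_reverse, List.mem_ofFn]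
      exact Iff.rfl
    refine IsSMulRegular.of_right_eq_zero_of_smul fun x hx => ?_
    obtain ⟨a, rfl⟩ := Submodule.Quotient.mk_surjective _ x
    rw [← Submodule.Quotient.mk_smul, Submodule.Quotient.mk_eq_zero, hspan, smul_eq_mul] at hx
    rw [Submodule.Quotient.mk_eq_zero, hspan]
    exact mem_of_mul_mem f hf hx

end Groth.Agent.Lib.Wiebe.AcycRegular
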