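import Groth.Agent.Lib.Wiebe.Link
import Groth.Agent.Lib.Koszul.Cone
import Groth.Prelude.Def_LCI2
import Mathlib.LinearAlgebra.TensorProduct.Pi
import Mathlib.RingTheory.Flat.Basic

/-! From `LCI.IsKoszulRegularSeq` to the cube model, and flat base change. -/

set_option autoImplicit false

universe u

namespace Groth.Agent.Lib.Wiebe.Bridge

open CategoryTheory CategoryTheory.Limits CochainComplex
open Groth.Agent.Lib.TorObstruction.Cube Groth.Agent.Lib.Wiebe.Exterior Groth.Agent.Lib.Wiebe.Link
open Groth.Agent.Lib.Koszul
open scoped TensorProduct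

variable {A : Type u} [CommRing A]

attribute [local instance] HasDerivedCategory.standard

theorem exists_comparison : ∀ (n : ℕ) (f : Fin n → A),
    ∃ θ : ∀ i : ℤ, V A n →ₗ[A] (Koszul.koszul A (List.ofFn f)).X i,
      (∀ i w, (Koszul.koszul A (List.ofFn f)).d i (i + 1) (θ i w) = θ (i + 1) (opI f w)) ∧
      (∀ i, Function.Surjective (θ i)) ∧
      ∀ i w, θ i w = 0 ↔ ∀ b, (wt b : ℤ) = -i → w b = 0
  | 0, f => by
      rw [List.ofFn_zero]
      let M := ModuleCat.of A A
      let K := (HomologicalComplex.single (ModuleCat.{u} A) (ComplexShape.up ℤ) 0).obj M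
      let θ : ∀ i : ℤ, V A 0 →ₗ[A] K.X i := fun i =>
        if h : i = 0 then
          (HomologicalComplex.singleObjXIsoOfEq (ComplexShape.up ℤ) 0 M i h).inv.hom.comp
            (LinearMap.proj (O 0))
        else 0
      refine ⟨θ, fun i w => ?_, fun i y => ?_, fun i w => ?_⟩
      · change K.d i (i + 1) (θ i w) = θ (i + 1) (opI f w)
        rw [HomologicalComplex.single_obj_d]
        simp [opI]
      · by_cases h : i = 0
        · let e := HomologicalComplex.singleObjXIsoOfEq (ComplexShape.up ℤ) 0 M i h
          obtain ⟨a, ha⟩ : ∃ a : A, e.inv.hom a = y :=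
            ((ModuleCat.epi_iff_surjective e.inv).1 inferInstance) y
          exact ⟨fun _ => a, by simp only [θ, dif_pos h, LinearMap.comp_apply]; exact ha⟩
        · refine ⟨0, ?_⟩
          haveI := ModuleCat.subsingleton_of_isZero
            (HomologicalComplex.isZero_single_obj_X (ComplexShape.up ℤ) 0 M i h)
          exact Subsingleton.elim (α := K.X i) _ _
      · by_cases h : i = 0
        · simp only [θ, dif_pos h, LinearMap.comp_apply]
          constructor
          · intro hw b _
            rw [Subsingleton.elim b (O 0)]
            exact (ModuleCat.mono_iff_injective _).1 inferInstance (hw.trans (map_zero _).symm)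
          · intro hw
            change (HomologicalComplex.singleObjXIsoOfEq (ComplexShape.up ℤ) 0 M i h).inv.hom
              (w (O 0)) = 0
            rw [hw (O 0) (by simp [wt, h]), map_zero]
        · simp only [θ, dif_neg h, LinearMap.zero_apply]
          constructor
          · intro _ b hb
            simp [wt] at hb
            omega
          · intro _; trivial
  | n + 1, f => by
      obtain ⟨θ, hd, hs, hk⟩ := exists_comparison n (Fin.tail f)
      rw [List.ofFn_succ]
      let K := Koszul.koszul A (List.ofFn (Fin.tail f))
      let φ : K ⟶ K := f 0 • 𝟙 K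
      let θ' : ∀ i : ℤ, V A (n + 1) →ₗ[A] (mappingCone φ).X i := fun i =>
        (Cone.cmk φ i (i + 1) rfl).comp
          (((θ (i + 1)).comp (face true)).prod ((θ i).comp (face false)))
      refine ⟨θ', fun i w => ?_, fun i y => ?_, fun i w => ?_⟩
      · change (mappingCone φ).d i (i + 1) (θ' i w) = θ' (i + 1) (opI f w)
        simp only [θ', LinearMap.comp_apply, LinearMap.prod_apply, Pi.prod]
        rw [Cone.d_cmk φ i (i + 1) (i + 1 + 1) rfl rfl]
        congr 1
        refine Prod.ext ?_ ?_
        · change -(K.d (i + 1) (i + 1 + 1) (θ (i + 1) (face true w))) =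
            θ (i + 1 + 1) (face true (opI f w))
          rw [hd, face_opI_true, map_neg]
        · change φ.f (i + 1) (θ (i + 1) (face true w)) + K.d i (i + 1) (θ i (face false w)) =
            θ (i + 1) (face false (opI f w))
          rw [hd, Cone.map_smul_id, face_opI_false, map_add, map_smul]
          exact add_comm _ _
      · obtain ⟨⟨a, b⟩, rfl⟩ := Cone.cmk_surjective φ i (i + 1) rfl y
        obtain ⟨wa, rfl⟩ := hs (i + 1) a
        obtain ⟨wb, rfl⟩ := hs i b
        refine ⟨glue (LinearMap.fst A (V A n) (V A n)) (LinearMap.snd A (V A n) (V A n)) (wb, wa), ?_⟩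
        change Cone.cmk φ i (i + 1) rfl (θ (i + 1) (face true (glue
          (LinearMap.fst A (V A n) (V A n)) (LinearMap.snd A (V A n) (V A n)) (wb, wa))),
          θ i (face false (glue
          (LinearMap.fst A (V A n) (V A n)) (LinearMap.snd A (V A n) (V A n)) (wb, wa)))) = _
        rw [face_glue, face_glue]
        simp
      · have hinj : θ' i w = 0 ↔ θ (i + 1) (face true w) = 0 ∧ θ i (face false w) = 0 := by
          constructor
          · intro h
            exact ⟨by simpa [θ', Cone.cfst_cmk] using congr_arg (Cone.cfst φ i (i + 1) rfl) h,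
              by simpa [θ', Cone.csnd_cmk] using congr_arg (Cone.csnd φ i) h⟩
          · rintro ⟨h1, h2⟩
            change Cone.cmk φ i (i + 1) rfl (θ (i + 1) (face true w), θ i (face false w)) = 0
            rw [h1, h2]
            exact map_zero _
        refine hinj.trans ?_
        rw [hk, hk]
        constructor
        · intro h b hb
          rw [← Fin.cons_self_tail b, wt_cons] at hb
          rw [← Fin.cons_self_tail b]
          cases hb0 : b 0
          · rw [hb0] at hb
            exact h.2 (Fin.tail b) (by simpa using hb)
          · rw [hb0, if_pos rfl] at hb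
            exact h.1 (Fin.tail b) (by push_cast at hb; omega)
        · intro h
          refine ⟨fun b hb => h (Fin.cons true b) ?_, fun b hb => h (Fin.cons false b) ?_⟩
          · rw [wt_cons, if_pos rfl]; push_cast; omega
          · rw [wt_cons]; simpa using hb

theorem acyc_of_isKoszulRegularSeq {n : ℕ} (f : Fin n → A)
    (hf : LCI.IsKoszulRegularSeq A (List.ofFn f)) : Acyc f := by
  obtain ⟨θ, hd, hs, hk⟩ := exists_comparison n f
  intro z hz hzO
  let K := Koszul.koszul A (List.ofFn f)
  have key : ∀ d : ℕ, ∃ w, P (d + 1) (opI f w) = P (d + 1) z := by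
    intro d
    let i : ℤ := -((d : ℤ) + 1)
    have hE : K.ExactAt i := (K.exactAt_iff_isZero_homology i).2 (hf i (by omega))
    rw [K.exactAt_iff' (i - 1) i (i + 1) (Cone.prev_up i) (Cone.next_up i),
      ShortComplex.moduleCat_exact_iff] at hE
    obtain ⟨y, hy⟩ := hE (θ i z) (by
      change K.d i (i + 1) (θ i z) = 0
      rw [hd, hz, map_zero])
    obtain ⟨w, rfl⟩ := hs (i - 1) y
    refine ⟨w, ?_⟩
    have h1 : θ i (opI f w - z) = 0 := by
      rw [map_sub, sub_eq_zero]
      have h2 := hd (i - 1) w
      rw [sub_add_cancel] at h2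
      exact h2.symm.trans hy
    funext b
    rw [P_apply, P_apply]
    split_ifs with hb
    · exact sub_eq_zero.1 ((hk i _).1 h1 b (by omega))
    · rfl
  choose w hw using key
  refine ⟨∑ d ∈ Finset.range n, P (d + 1 + 1) (w d), ?_⟩
  rw [map_sum]
  simp only [← P_opI, hw]
  funext b
  rw [Finset.sum_apply]
  simp only [P_apply]
  rcases Nat.eq_zero_or_pos (wt b) with h0 | hpos
  · rw [eq_O_of_wt b h0, hzO]
    exact Finset.sum_eq_zero fun d _ => by rw [wt_O, if_neg (by omega)]
  · have hle := wt_le b
    rw [Finset.sum_eq_single (wt b - 1)]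
    · rw [if_pos (by omega)]
    · intro d _ hd
      rw [if_neg (by omega)]
    · intro h
      simp at h
      omega

theorem opI_map {B : Type u} [CommRing B] (φ : A →+* B) : ∀ {m : ℕ} (f : Fin m → A) (v : V A m),
    opI (φ ∘ f) (φ ∘ v) = φ ∘ opI f v
  | 0, _, _ => by funext b; simp [opI]
  | m + 1, f, v => by
      have hface : ∀ (s : Bool) (v : V A (m + 1)), face s (φ ∘ v) = φ ∘ face s v := fun _ _ => rfl
      have ht : Fin.tail (φ ∘ f) = φ ∘ Fin.tail f := rfl
      refine ext_face ?_ ?_
      · simp only [face_opI_false, hface, ht, opI_map φ (Fin.tail f)]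
        funext b
        simp
      · simp only [face_opI_true, hface, ht, opI_map φ (Fin.tail f)]
        funext b
        simp

theorem acyc_flat {B : Type u} [CommRing B] [Algebra A B] [Module.Flat A B] {n : ℕ}
    (f : Fin n → A) (hf : Acyc f) : Acyc fun i => algebraMap A B (f i) := by
  let fB : Fin n → B := fun i => algebraMap A B (f i)
  let α : V A n →ₗ[A] V A n := (opI f).comp (LinearMap.id - P 0 - P 1)
  let γ : V A n →ₗ[A] V A n :=
    opI f + (LinearMap.proj (O n)).smulRight (Pi.single (top n) 1)
  have hex : Function.Exact α γ := by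
    intro z
    constructor
    · intro hz
      have htop := congr_fun hz (top n)
      simp only [γ, LinearMap.add_apply, Pi.add_apply, opI_apply_top, zero_add,
        LinearMap.smulRight_apply, LinearMap.proj_apply, Pi.smul_apply, Pi.single_eq_same,
        smul_eq_mul, mul_one, Pi.zero_apply] at htop
      have hzero : opI f z = 0 := by
        have h := hz
        simp only [γ, LinearMap.add_apply, LinearMap.smulRight_apply, LinearMap.proj_apply] at h
        rwa [htop, zero_smul, add_zero] at h
      obtain ⟨w, hw⟩ := hf z hzero htop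
      refine ⟨w, ?_⟩
      have h1 : opI f (P 1 w) = 0 := by
        have h := P_opI f 0 w
        rw [hw, P_zero_eq, htop, zero_smul] at h
        exact h.symm
      simp [α, opI_P_zero, h1, hw]
    · rintro ⟨w, rfl⟩
      have hO : α w (O n) = 0 := by
        have h := congr_fun (P_opI f 0 (w - P 0 w - P 1 w)) (O n)
        rw [P_apply, if_pos (wt_O n)] at h
        refine h.trans ?_
        have h1 : P (0 + 1) (w - P 0 w - P 1 w) = 0 := by
          simp [map_sub, P_P]
        rw [h1, map_zero]
        rfl
      have hι : opI f (α w) = 0 := opI_opI f _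
      simp only [γ, LinearMap.add_apply, LinearMap.smulRight_apply, LinearMap.proj_apply, hO, hι,
        zero_smul, add_zero]
  let E : B ⊗[A] V A n ≃ₗ[B] V B n := TensorProduct.piScalarRight A B B (Fin n → Bool)
  have hE : ∀ (s : B) (v : V A n), E (s ⊗ₜ v) = s • (algebraMap A B ∘ v) := fun s v => by
    funext b
    simp [E, Algebra.smul_def, mul_comm]
  have hα : ∀ x, opI fB (E x - P 0 (E x) - P 1 (E x)) = E (α.lTensor B x) := by
    intro x
    induction x using TensorProduct.induction_on with
    | zero => simp
    | tmul s v =>
        have hmapP : ∀ d, P d (algebraMap A B ∘ v) = algebraMap A B ∘ P d v := fun d => funext fun b => by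
          rw [Function.comp_apply, P_apply, P_apply]
          split_ifs <;> simp
        rw [LinearMap.lTensor_tmul, hE, hE, map_smul, map_smul, ← smul_sub, ← smul_sub, map_smul,
          hmapP, hmapP]
        congr 1
        simp only [α, LinearMap.comp_apply, LinearMap.sub_apply, LinearMap.id_apply]
        rw [← opI_map]
        congr 1
        funext b
        simp
    | add x y hx hy =>
        simp only [map_add, ← hx, ← hy, add_sub_add_comm]
  have hγ : ∀ x, opI fB (E x) + E x (O n) • (Pi.single (top n) 1 : V B n) = E (γ.lTensor B x) := by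
    intro x
    induction x using TensorProduct.induction_on with
    | zero => simp
    | tmul s v =>
        rw [LinearMap.lTensor_tmul, hE, hE, map_smul, Pi.smul_apply, smul_assoc, ← smul_add]
        congr 1
        simp only [γ, LinearMap.add_apply, LinearMap.smulRight_apply, LinearMap.proj_apply]
        change opI (algebraMap A B ∘ f) (algebraMap A B ∘ v) + _ = _
        rw [opI_map]
        funext b
        by_cases hb : b = top n
        · subst hb; simp [Algebra.smul_def]
        · simp [hb, Algebra.smul_def]
    | add x y hx hy =>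
        simp only [map_add, ← hx, ← hy, Pi.add_apply, add_smul]
        abel
  intro z hz hzO
  have h0 : γ.lTensor B (E.symm z) = 0 := by
    apply E.injective
    rw [← hγ, E.apply_symm_apply, map_zero, hz, hzO, zero_smul, add_zero]
  obtain ⟨y, hy⟩ := ((Module.Flat.lTensor_exact B hex) _).1 h0
  refine ⟨E y - P 0 (E y) - P 1 (E y), ?_⟩
  rw [hα, hy, E.apply_symm_apply]

end Groth.Agent.Lib.Wiebe.Bridge
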