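import Groth.Agent.Lib.Wiebe.Bridge
import Groth.Agent.Lib.FlatCx.Ker
import Mathlib.RingTheory.Flat.EquationalCriterion
import Mathlib.RingTheory.Flat.Stability

/-! Koszul acyclicity with flat quotient is universal. -/

set_option autoImplicit false

universe u

namespace Groth.Agent.Lib.Wiebe.AcycBaseChange

open Groth.Agent.Lib.TorObstruction.Cube Groth.Agent.Lib.Wiebe.Exterior Groth.Agent.Lib.Wiebe.Link
open Groth.Agent.Lib.Wiebe.Bridge
open scoped TensorProduct

theorem P_idem {Q : Type u} [CommRing Q] {m : ℕ} (d : ℕ) (w : V Q m) : P d (P d w) = P d w := by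
  rw [P_P, if_pos rfl]

theorem flat_prod {A M N : Type u} [CommRing A] [AddCommGroup M] [Module A M] [AddCommGroup N]
    [Module A N] [Module.Flat A M] [Module.Flat A N] : Module.Flat A (M × N) := by
  refine Module.Flat.of_forall_isTrivialRelation fun {l f x} hfx => ?_
  have h1 : ∑ i, f i • (x i).1 = 0 := by simpa [Prod.fst_sum] using congr_arg Prod.fst hfx
  have h2 : ∑ i, f i • (x i).2 = 0 := by simpa [Prod.snd_sum] using congr_arg Prod.snd hfx
  obtain ⟨k₁, a, y, ha, hy⟩ := Module.Flat.isTrivialRelation_of_sum_smul_eq_zero h1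
  obtain ⟨k₂, b, z, hb, hz⟩ := Module.Flat.isTrivialRelation_of_sum_smul_eq_zero h2
  refine ⟨k₁ + k₂, fun i => Fin.append (a i) (b i),
    Fin.append (fun j => (y j, 0)) (fun j => (0, z j)), fun i => ?_, fun j => ?_⟩
  · ext
    · simp [Fin.sum_univ_add, Prod.fst_sum, ha i]
    · simp [Fin.sum_univ_add, Prod.snd_sum, hb i]
  · refine Fin.addCases (fun j => ?_) (fun j => ?_) j
    · simpa using hy j
    · simpa using hz j

theorem flat_V (A : Type u) [CommRing A] (R : Type u) [CommRing R] [Algebra A R] [Module.Flat A R]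
    (n : ℕ) : Module.Flat A (V R n) := Module.Flat.trans A R (V R n)

variable {A : Type u} [CommRing A] {R : Type u} [CommRing R] [Algebra A R] {n : ℕ} (f : Fin n → R)

/-- The Koszul differential out of weight `d + 1`. -/
noncomputable def D (d : ℕ) : V R n →ₗ[A] V R n :=
  ((opI f).comp (P (d + 1))).restrictScalars A

theorem D_apply (d : ℕ) (v : V R n) : D (A := A) f d v = opI f (P (d + 1) v) := rfl

variable (hf : Acyc f) [Module.Flat A R] [Module.Flat A (R ⧸ Ideal.span (Set.range f))]
include hf

theorem mem_range_of_mem_ker (d : ℕ) {v : V R n} (h : D (A := A) f d v = 0) :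
    P (d + 1) v ∈ LinearMap.range (D (A := A) f (d + 1)) := by
  obtain ⟨w, hw⟩ := hf (P (d + 1) v) h (by rw [P_apply, if_neg (by rw [wt_O]; omega)])
  refine ⟨w, ?_⟩
  rw [D_apply, ← P_opI, hw, P_idem]

theorem flat_coker : ∀ d : ℕ, Module.Flat A (V R n ⧸ LinearMap.range (D (A := A) f d))
  | 0 => by
    have := flat_V A R n
    have : Module.Flat A ((R ⧸ Ideal.span (Set.range f)) × V R n) := flat_prod
    have hO : ∀ v ∈ LinearMap.range (D (A := A) f 0),
        v (O n) ∈ Ideal.span (Set.range f) ∧ v - P 0 v = 0 := by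
      rintro _ ⟨w, rfl⟩
      exact ⟨opI_mem _ _ _, by rw [D_apply, ← P_opI, P_idem, sub_self]⟩
    let g : V R n →ₗ[A] ((R ⧸ Ideal.span (Set.range f)) × V R n) :=
      (((Ideal.span (Set.range f)).mkQ.restrictScalars A).comp
        ((LinearMap.proj (O n) : V R n →ₗ[R] R).restrictScalars A)).prod
        ((LinearMap.id - P 0 : V R n →ₗ[R] V R n).restrictScalars A)
    let i := (LinearMap.range (D (A := A) f 0)).liftQ g fun v hv => by
      obtain ⟨h1, h2⟩ := hO v hv
      exact LinearMap.mem_ker.2 (Prod.ext ((Submodule.Quotient.mk_eq_zero _).2 h1) h2)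
    let c : R →ₗ[A] V R n ⧸ LinearMap.range (D (A := A) f 0) :=
      (LinearMap.range (D (A := A) f 0)).mkQ.comp
        ((LinearMap.toSpanSingleton R (V R n) (delta R n)).restrictScalars A)
    let c' := ((Ideal.span (Set.range f)).restrictScalars A).liftQ c fun a ha => by
      obtain ⟨z, hz, hzO⟩ := exists_preimage_O f ha
      refine LinearMap.mem_ker.2 ((Submodule.Quotient.mk_eq_zero _).2 ⟨z, ?_⟩)
      rw [D_apply, ← P_opI, hz, map_smul, P_zero_delta]
      rfl
    let r : ((R ⧸ Ideal.span (Set.range f)) × V R n) →ₗ[A]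
        V R n ⧸ LinearMap.range (D (A := A) f 0) :=
      (c'.comp (Submodule.Quotient.restrictScalarsEquiv A
          (Ideal.span (Set.range f))).symm.toLinearMap).coprod
        ((LinearMap.range (D (A := A) f 0)).mkQ.comp
          ((LinearMap.id - P 0 : V R n →ₗ[R] V R n).restrictScalars A))
    refine Module.Flat.of_retract i r (Submodule.linearMap_qext _ (LinearMap.ext fun v => ?_))
    have hc : c' ((Submodule.Quotient.restrictScalarsEquiv A (Ideal.span (Set.range f))).symm
        (Submodule.Quotient.mk (v (O n)))) =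
        Submodule.Quotient.mk (v (O n) • delta R n) := by
      rw [Submodule.Quotient.restrictScalarsEquiv_symm_mk]
      rfl
    refine (show r (i (Submodule.Quotient.mk v)) =
      c' ((Submodule.Quotient.restrictScalarsEquiv A (Ideal.span (Set.range f))).symm
        (Submodule.Quotient.mk (v (O n)))) +
      Submodule.Quotient.mk ((v - P 0 v) - P 0 (v - P 0 v)) from rfl).trans ?_
    rw [hc, map_sub, P_idem, sub_self, sub_zero, ← Submodule.Quotient.mk_add, ← P_zero_eq, add_sub_cancel]
    rfl
  | d + 1 => by
    have := flat_coker d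
    have := flat_V A R n
    have := FlatCx.Ker.flat_range (D (A := A) f d)
    have : Module.Flat A (LinearMap.range (D (A := A) f d) × V R n) := flat_prod
    let g : V R n →ₗ[A] (LinearMap.range (D (A := A) f d) × V R n) :=
      (D (A := A) f d).rangeRestrict.prod
        ((LinearMap.id - P (d + 1) : V R n →ₗ[R] V R n).restrictScalars A)
    let i := (LinearMap.range (D (A := A) f (d + 1))).liftQ g fun v hv => by
      obtain ⟨w, rfl⟩ := hv
      refine LinearMap.mem_ker.2 (Prod.ext (Subtype.ext ?_) ?_)
      · show opI f (P (d + 1) (opI f (P (d + 1 + 1) w))) = 0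
        rw [← P_opI f (d + 1), P_idem, P_opI, opI_opI]
      · show opI f (P (d + 1 + 1) w) - P (d + 1) (opI f (P (d + 1 + 1) w)) = 0
        rw [← P_opI, P_idem, sub_self]
    let σ : LinearMap.range (D (A := A) f d) →ₗ[A] V R n ⧸ LinearMap.range (D (A := A) f (d + 1)) :=
      ((LinearMap.ker (D (A := A) f d)).liftQ
        ((LinearMap.range (D (A := A) f (d + 1))).mkQ.comp
          ((P (d + 1) : V R n →ₗ[R] V R n).restrictScalars A)) fun v hv =>
            LinearMap.mem_ker.2 ((Submodule.Quotient.mk_eq_zero _).2
              (mem_range_of_mem_ker f hf d hv))).comp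
        (D (A := A) f d).quotKerEquivRange.symm.toLinearMap
    let r : (LinearMap.range (D (A := A) f d) × V R n) →ₗ[A]
        V R n ⧸ LinearMap.range (D (A := A) f (d + 1)) :=
      σ.coprod ((LinearMap.range (D (A := A) f (d + 1))).mkQ.comp
        ((LinearMap.id - P (d + 1) : V R n →ₗ[R] V R n).restrictScalars A))
    refine Module.Flat.of_retract i r (Submodule.linearMap_qext _ (LinearMap.ext fun v => ?_))
    show σ ((D (A := A) f d).rangeRestrict v) +
      Submodule.Quotient.mk ((v - P (d + 1) v) - P (d + 1) (v - P (d + 1) v)) = Submodule.Quotient.mk v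
    have hσ : σ ((D (A := A) f d).rangeRestrict v) = Submodule.Quotient.mk (P (d + 1) v) := by
      have : (D (A := A) f d).quotKerEquivRange.symm ((D (A := A) f d).rangeRestrict v) =
          Submodule.Quotient.mk v := by
        rw [LinearEquiv.symm_apply_eq]
        exact Subtype.ext rfl
      simp only [σ, LinearMap.comp_apply, LinearEquiv.coe_coe, this]
      rfl
    rw [hσ, map_sub, P_idem, sub_self, sub_zero, ← Submodule.Quotient.mk_add, add_sub_cancel]

/-- Base change of an acyclic Koszul family with flat quotient. -/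
theorem acyc_baseChange (k : Type u) [CommRing k] [Algebra A k] :
    Acyc fun i => (Algebra.TensorProduct.includeRight : R →ₐ[A] k ⊗[A] R) (f i) := by
  classical
  let S := k ⊗[A] R
  let ι : R →+* S := (Algebra.TensorProduct.includeRight : R →ₐ[A] k ⊗[A] R).toRingHom
  let fS : Fin n → S := fun i => ι (f i)
  let E : k ⊗[A] V R n ≃ₗ[A] V S n := TensorProduct.piRight A A k fun _ : Fin n → Bool => R
  have hE : ∀ (s : k) (v : V R n), E (s ⊗ₜ v) = ((s ⊗ₜ (1 : R) : S)) • (ι ∘ v) := fun s v => by
    funext b
    simp [E, ι, Algebra.TensorProduct.tmul_mul_tmul]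
  have hD : ∀ d x, E ((D (A := A) f d).lTensor k x) = opI fS (P (d + 1) (E x)) := fun d x => by
    induction x using TensorProduct.induction_on with
    | zero => simp
    | add x y hx hy => simp only [map_add, hx, hy]
    | tmul s v =>
      have hmapP : P (d + 1) (ι ∘ v) = ι ∘ P (d + 1) v := funext fun b => by
        rw [Function.comp_apply, P_apply, P_apply]
        split_ifs <;> simp
      rw [LinearMap.lTensor_tmul, hE, hE, D_apply, map_smul, map_smul, hmapP]
      exact congrArg _ (opI_map ι f _).symm
  intro z hz hzO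
  suffices h : z ∈ LinearMap.range (opI fS) from h
  rw [← low_eq_self le_rfl z, low, LinearMap.sum_apply]
  refine Submodule.sum_mem _ fun e _ => ?_
  cases e with
  | zero => rw [P_zero_eq, hzO, zero_smul]; exact zero_mem _
  | succ d =>
    have := flat_V A R n
    have := flat_coker (A := A) f hf d
    have hx : (D (A := A) f d).lTensor k (E.symm (P (d + 1) z)) = 0 := E.injective (by
      rw [hD, E.apply_symm_apply, P_idem, ← P_opI, show opI fS z = 0 from hz, map_zero, map_zero])
    obtain ⟨y, hy⟩ := ((FlatCx.Ker.ker_lTensor_of_flat_coker (D (A := A) f d) k).2 _).1 hx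
    let c : LinearMap.ker (D (A := A) f d) →ₗ[A] LinearMap.range (D (A := A) f (d + 1)) :=
      LinearMap.codRestrict _ (((P (d + 1) : V R n →ₗ[R] V R n).restrictScalars A).comp
        (LinearMap.ker (D (A := A) f d)).subtype) fun v => mem_range_of_mem_ker f hf d v.2
    obtain ⟨w, hw⟩ := LinearMap.lTensor_surjective k
      (D (A := A) f (d + 1)).surjective_rangeRestrict (c.lTensor k y)
    refine ⟨P (d + 1 + 1) (E w), ?_⟩
    rw [← hD, show D (A := A) f (d + 1) = (LinearMap.range (D (A := A) f (d + 1))).subtype ∘ₗ
      (D (A := A) f (d + 1)).rangeRestrict from rfl, LinearMap.lTensor_comp, LinearMap.comp_apply, hw,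
      ← LinearMap.comp_apply, ← LinearMap.lTensor_comp,
      show (LinearMap.range (D (A := A) f (d + 1))).subtype ∘ₗ c =
        ((P (d + 1) : V R n →ₗ[R] V R n).restrictScalars A) ∘ₗ
          (LinearMap.ker (D (A := A) f d)).subtype from rfl,
      LinearMap.lTensor_comp, LinearMap.comp_apply, hy]
    have hP : ∀ x, E (((P (d + 1) : V R n →ₗ[R] V R n).restrictScalars A).lTensor k x) =
        P (d + 1) (E x) := fun x => by
      induction x using TensorProduct.induction_on with
      | zero => simp
      | add x y hx hy => simp only [map_add, hx, hy]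
      | tmul s v =>
        funext b
        simp only [LinearMap.lTensor_tmul, LinearMap.restrictScalars_apply, E, P_apply,
          TensorProduct.piRight_apply, TensorProduct.piRightHom_tmul]
        split_ifs <;> simp
    rw [hP, E.apply_symm_apply, P_idem]

end Groth.Agent.Lib.Wiebe.AcycBaseChange
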