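import Groth.Agent.Lib.TorObstruction.Cube
import Mathlib.LinearAlgebra.Determinant

/-! Weights and wedge products on the cube model of the exterior algebra. -/

set_option autoImplicit false

universe u

namespace Groth.Agent.Lib.Wiebe.Exterior

open Groth.Agent.Lib.TorObstruction.Cube

variable {Q : Type u} [CommRing Q]

/-- The weight of a vertex. -/
def wt : ∀ {m : ℕ}, (Fin m → Bool) → ℕ
  | 0, _ => 0
  | _ + 1, b => (if b 0 then 1 else 0) + wt (Fin.tail b)

/-- The last vertex. -/
abbrev top (m : ℕ) : Fin m → Bool := fun _ => true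

theorem wt_cons {m : ℕ} (v : Bool) (t : Fin m → Bool) :
    wt (Fin.cons v t : Fin (m + 1) → Bool) = (if v then 1 else 0) + wt t := rfl

theorem wt_le : ∀ {m : ℕ} (b : Fin m → Bool), wt b ≤ m
  | 0, _ => le_rfl
  | m + 1, b => by
      have := wt_le (Fin.tail b)
      simp only [wt]
      split_ifs <;> omega

theorem cons_O (m : ℕ) : (Fin.cons false (O m) : Fin (m + 1) → Bool) = O (m + 1) := by
  funext i
  exact Fin.cases rfl (fun _ => rfl) i

theorem cons_top (m : ℕ) : (Fin.cons true (top m) : Fin (m + 1) → Bool) = top (m + 1) := by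
  funext i
  exact Fin.cases rfl (fun _ => rfl) i

theorem wt_O : ∀ m : ℕ, wt (O m) = 0
  | 0 => rfl
  | m + 1 => by rw [← cons_O m, wt_cons, wt_O m]; rfl

theorem wt_top : ∀ m : ℕ, wt (top m) = m
  | 0 => rfl
  | m + 1 => by rw [← cons_top m, wt_cons, wt_top m, if_pos rfl]; omega

theorem eq_O_of_wt : ∀ {m : ℕ} (b : Fin m → Bool), wt b = 0 → b = O m
  | 0, _, _ => Subsingleton.elim _ _
  | m + 1, b, h => by
      rw [← Fin.cons_self_tail b, wt_cons] at h
      rw [← Fin.cons_self_tail b, ← cons_O]
      cases hb : b 0
      · rw [hb] at h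
        rw [eq_O_of_wt (Fin.tail b) (by simpa using h)]
      · rw [hb] at h
        simp at h

theorem eq_top_of_wt : ∀ {m : ℕ} (b : Fin m → Bool), wt b = m → b = top m
  | 0, _, _ => Subsingleton.elim _ _
  | m + 1, b, h => by
      have hle := wt_le (Fin.tail b)
      rw [← Fin.cons_self_tail b, wt_cons] at h
      rw [← Fin.cons_self_tail b, ← cons_top]
      cases hb : b 0
      · rw [hb] at h
        simp at h
        omega
      · rw [hb, if_pos rfl] at h
        rw [eq_top_of_wt (Fin.tail b) (by omega)]

/-- Projection to weight `d`. -/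
def P (d : ℕ) {m : ℕ} : V Q m →ₗ[Q] V Q m :=
  LinearMap.pi fun b => if wt b = d then LinearMap.proj b else 0

theorem P_apply (d : ℕ) {m : ℕ} (w : V Q m) (b : Fin m → Bool) :
    P d w b = if wt b = d then w b else 0 := by
  simp only [P, LinearMap.pi_apply]
  split_ifs <;> rfl

theorem P_eq_zero_of_lt {d m : ℕ} (h : m < d) (w : V Q m) : P d w = 0 := funext fun b => by
  rw [P_apply, if_neg (by have := wt_le b; omega)]; rfl

theorem face_P_false (d : ℕ) {m : ℕ} (w : V Q (m + 1)) :
    face false (P d w) = P d (face false w) := funext fun t => by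
  change P d w (Fin.cons false t) = P d (face false w) t
  rw [P_apply, P_apply, wt_cons]
  simp [face, LinearMap.funLeft_apply]

theorem face_P_true (d : ℕ) {m : ℕ} (w : V Q (m + 1)) :
    face true (P (d + 1) w) = P d (face true w) := funext fun t => by
  change P (d + 1) w (Fin.cons true t) = P d (face true w) t
  rw [P_apply, P_apply, wt_cons, if_pos (rfl : true = true)]
  simp [face, LinearMap.funLeft_apply, Nat.add_comm 1]

theorem face_P_true_zero {m : ℕ} (w : V Q (m + 1)) : face true (P 0 w) = 0 := funext fun t => by
  change P 0 w (Fin.cons true t) = 0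
  rw [P_apply, wt_cons, if_pos (rfl : true = true), if_neg (by omega)]

theorem face_opI_false {m : ℕ} (f : Fin (m + 1) → Q) (w : V Q (m + 1)) :
    face false (opI f w) = opI (Fin.tail f) (face false w) + f 0 • face true w := by
  simp [opI, face_glue]

theorem face_opI_true {m : ℕ} (f : Fin (m + 1) → Q) (w : V Q (m + 1)) :
    face true (opI f w) = -opI (Fin.tail f) (face true w) := by
  simp [opI, face_glue]

theorem face_opE_false {m : ℕ} (r : Fin (m + 1) → Q) (w : V Q (m + 1)) :
    face false (opE r w) = opE (Fin.tail r) (face false w) := by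
  simp [opE, face_glue]

theorem face_opE_true {m : ℕ} (r : Fin (m + 1) → Q) (w : V Q (m + 1)) :
    face true (opE r w) = r 0 • face false w - opE (Fin.tail r) (face true w) := by
  simp [opE, face_glue]

theorem P_opI : ∀ {m : ℕ} (f : Fin m → Q) (d : ℕ) (w : V Q m),
    P d (opI f w) = opI f (P (d + 1) w)
  | 0, _, _, _ => by simp [opI]
  | m + 1, f, d, w => by
      refine ext_face ?_ ?_
      · simp only [face_P_false, face_opI_false, face_P_true, map_add, map_smul, P_opI (Fin.tail f)]
      · cases d with
        | zero =>
            rw [face_P_true_zero, face_opI_true, face_P_true]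
            have : P 0 (face true w) = face true w (O m) • delta Q m := funext fun t => by
              rw [P_apply, Pi.smul_apply, delta]
              by_cases ht : t = O m
              · subst ht; simp [wt_O]
              · rw [if_neg (fun h => ht (eq_O_of_wt t h)), if_neg ht, smul_zero]
            rw [this, map_smul, opI_delta, smul_zero, neg_zero]
        | succ d =>
            simp only [face_P_true, face_opI_true, map_neg, P_opI (Fin.tail f)]

theorem opI_P_zero {m : ℕ} (f : Fin m → Q) (w : V Q m) : opI f (P 0 w) = 0 := by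
  have : P 0 w = w (O m) • delta Q m := funext fun t => by
    rw [P_apply, Pi.smul_apply, delta]
    by_cases ht : t = O m
    · subst ht; simp [wt_O]
    · rw [if_neg (fun h => ht (eq_O_of_wt t h)), if_neg ht, smul_zero]
  rw [this, map_smul, opI_delta, smul_zero]

theorem opI_apply_top {m : ℕ} (f : Fin m → Q) (w : V Q m) : opI f w (top m) = 0 := by
  have h := congr_fun (P_opI f m w) (top m)
  rwa [P_apply, if_pos (wt_top m), P_eq_zero_of_lt (Nat.lt_succ_self m), map_zero] at h

theorem P_opE : ∀ {m : ℕ} (r : Fin m → Q) (d : ℕ) (w : V Q m),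
    P (d + 1) (opE r w) = opE r (P d w)
  | 0, _, _, _ => by simp [opE]
  | m + 1, r, d, w => by
      refine ext_face ?_ ?_
      · simp only [face_P_false, face_opE_false, P_opE (Fin.tail r)]
      · cases d with
        | zero =>
            rw [face_P_true, face_opE_true, face_opE_true, face_P_false, face_P_true_zero,
              map_zero, sub_zero, map_sub, map_smul]
            have : P 0 (opE (Fin.tail r) (face true w)) = 0 := funext fun t => by
              rw [P_apply]
              split_ifs with h
              · rw [eq_O_of_wt t h]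
                exact opE_apply_O _ _
              · rfl
            rw [this, sub_zero]
        | succ d =>
            simp only [face_P_true, face_P_false, face_opE_true, map_sub, map_smul, P_opE (Fin.tail r)]

theorem opI_mem : ∀ {m : ℕ} (f : Fin m → Q) (w : V Q m) (b : Fin m → Bool),
    opI f w b ∈ Ideal.span (Set.range f)
  | 0, _, _, _ => Submodule.zero_mem _
  | m + 1, f, w, b => by
      have hsub : Ideal.span (Set.range (Fin.tail f)) ≤ Ideal.span (Set.range f) :=
        Ideal.span_mono (by rintro _ ⟨i, rfl⟩; exact ⟨i.succ, rfl⟩)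
      have h : opI f w b = face (b 0) (opI f w) (Fin.tail b) := by
        change _ = opI f w (Fin.cons (b 0) (Fin.tail b))
        rw [Fin.cons_self_tail]
      rw [h]
      cases b 0
      · rw [face_opI_false, Pi.add_apply, Pi.smul_apply, smul_eq_mul]
        exact add_mem (hsub (opI_mem _ _ _))
          (Ideal.mul_mem_right _ _ (Ideal.subset_span ⟨0, rfl⟩))
      · rw [face_opI_true, Pi.neg_apply]
        exact neg_mem (hsub (opI_mem _ _ _))

theorem opE_add : ∀ {m : ℕ} (r s : Fin m → Q) (w : V Q m), opE (r + s) w = opE r w + opE s w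
  | 0, _, _, _ => by simp [opE]
  | m + 1, r, s, w => by
      have ht : Fin.tail (r + s) = Fin.tail r + Fin.tail s := rfl
      refine ext_face ?_ ?_
      · simp only [map_add, face_opE_false, ht, opE_add (Fin.tail r) (Fin.tail s)]
      · simp only [map_add, face_opE_true, ht, opE_add (Fin.tail r) (Fin.tail s), Pi.add_apply, add_smul]
        abel

theorem opE_smul : ∀ {m : ℕ} (a : Q) (r : Fin m → Q) (w : V Q m), opE (a • r) w = a • opE r w
  | 0, _, _, _ => by simp [opE]
  | m + 1, a, r, w => by
      have ht : Fin.tail (a • r) = a • Fin.tail r := rfl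
      refine ext_face ?_ ?_
      · simp only [map_smul, face_opE_false, ht, opE_smul a (Fin.tail r)]
      · simp only [map_smul, face_opE_true, ht, opE_smul a (Fin.tail r), Pi.smul_apply, smul_eq_mul, smul_sub,
          mul_smul]

theorem opE_zero {m : ℕ} (w : V Q m) : opE (0 : Fin m → Q) w = 0 := by
  simpa using opE_smul (0 : Q) (0 : Fin m → Q) w

theorem opE_anticomm {m : ℕ} (r s : Fin m → Q) (w : V Q m) :
    opE r (opE s w) = -opE s (opE r w) := by
  have h := opE_opE (r + s) w
  rw [opE_add, opE_add r s w, map_add, map_add, opE_opE, opE_opE, zero_add, add_zero] at h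
  exact eq_neg_of_add_eq_zero_left h

/-- The wedge product of the rows. -/
def T {n : ℕ} : ∀ {k : ℕ}, (Fin k → Fin n → Q) → V Q n
  | 0, _ => delta Q n
  | _ + 1, v => opE (v 0) (T (Fin.tail v))

theorem P_zero_delta (n : ℕ) : P 0 (delta Q n) = delta Q n := funext fun b => by
  rw [P_apply]
  split_ifs with h
  · rfl
  · rw [delta, if_neg (fun hb => h (by rw [hb, wt_O]))]

theorem P_T {n : ℕ} : ∀ {k : ℕ} (v : Fin k → Fin n → Q), P k (T v) = T v
  | 0, _ => P_zero_delta n
  | k + 1, v => by rw [T, P_opE, P_T]

theorem opE_T_eq_zero {n : ℕ} : ∀ {k : ℕ} (v : Fin k → Fin n → Q) (j : Fin k),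
    opE (v j) (T v) = 0
  | 0, _, j => j.elim0
  | k + 1, v, j => by
      rw [T]
      refine Fin.cases ?_ (fun i => ?_) j
      · exact opE_opE _ _
      · rw [opE_anticomm, show v i.succ = Fin.tail v i from rfl, opE_T_eq_zero, map_zero, neg_zero]

theorem T_eq_zero_of_eq {n : ℕ} : ∀ {k : ℕ} (v : Fin k → Fin n → Q) (i j : Fin k),
    v i = v j → i ≠ j → T v = 0
  | 0, _, i, _, _, _ => i.elim0
  | k + 1, v, i, j, h, hne => by
      rw [T]
      induction i using Fin.cases with
      | zero =>
          induction j using Fin.cases with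
          | zero => exact absurd rfl hne
          | succ b => rw [h, show v b.succ = Fin.tail v b from rfl, opE_T_eq_zero]
      | succ a =>
          induction j using Fin.cases with
          | zero => rw [← h, show v a.succ = Fin.tail v a from rfl, opE_T_eq_zero]
          | succ b =>
              rw [T_eq_zero_of_eq (Fin.tail v) a b h (fun e => hne (by rw [e])), map_zero]

theorem T_update_add {n : ℕ} : ∀ {k : ℕ} (v : Fin k → Fin n → Q) (i : Fin k) (x y : Fin n → Q),
    T (Function.update v i (x + y)) = T (Function.update v i x) + T (Function.update v i y)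
  | 0, _, i, _, _ => i.elim0
  | k + 1, v, i, x, y => by
      induction i using Fin.cases with
      | zero => simp only [T, Fin.tail_update_zero, Function.update_self, opE_add]
      | succ a =>
          simp only [T, Fin.tail_update_succ, Function.update_of_ne (Fin.succ_ne_zero a).symm,
            T_update_add (Fin.tail v) a x y, map_add]

theorem T_update_smul {n : ℕ} : ∀ {k : ℕ} (v : Fin k → Fin n → Q) (i : Fin k) (a : Q)
    (x : Fin n → Q), T (Function.update v i (a • x)) = a • T (Function.update v i x)
  | 0, _, i, _, _ => i.elim0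
  | k + 1, v, i, a, x => by
      induction i using Fin.cases with
      | zero => simp only [T, Fin.tail_update_zero, Function.update_self, opE_smul]
      | succ b =>
          simp only [T, Fin.tail_update_succ, Function.update_of_ne (Fin.succ_ne_zero b).symm,
            T_update_smul (Fin.tail v) b a x, map_smul]

theorem face_delta_false (m : ℕ) : face false (delta Q (m + 1)) = delta Q m := funext fun t => by
  change delta Q (m + 1) (Fin.cons false t) = delta Q m t
  by_cases h : t = O m
  · subst h
    rw [cons_O]
    simp [delta]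
  · rw [delta, delta, if_neg h, if_neg]
    intro h'
    rw [← cons_O] at h'
    exact h ((Fin.cons_inj.1 h').2)

theorem face_delta_true (m : ℕ) : face true (delta Q (m + 1)) = 0 := funext fun t => by
  change delta Q (m + 1) (Fin.cons true t) = 0
  rw [delta, if_neg]
  intro h'
  simpa using congr_fun h' 0

theorem face_T_shift {n : ℕ} : ∀ {k : ℕ} (v : Fin k → Fin n → Q),
    face false (T fun i => (Fin.cons 0 (v i) : Fin (n + 1) → Q)) = T v ∧
      face true (T fun i => (Fin.cons 0 (v i) : Fin (n + 1) → Q)) = 0
  | 0, _ => ⟨face_delta_false n, face_delta_true n⟩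
  | k + 1, v => by
      obtain ⟨h0, h1⟩ := face_T_shift (Fin.tail v)
      have ht : Fin.tail (fun i => (Fin.cons 0 (v i) : Fin (n + 1) → Q)) =
          fun i => (Fin.cons 0 (Fin.tail v i) : Fin (n + 1) → Q) := rfl
      constructor
      · simp only [T, ht, face_opE_false, h0, Fin.tail_cons]
      · simp only [T, ht, face_opE_true, h1, Fin.cons_zero, zero_smul, map_zero, sub_zero]

theorem T_single : ∀ n : ℕ, T (fun i : Fin n => (Pi.single i 1 : Fin n → Q)) (top n) = 1
  | 0 => by simp [T, delta, Subsingleton.elim (top 0) (O 0)]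
  | n + 1 => by
      have ht : Fin.tail (fun i : Fin (n + 1) => (Pi.single i 1 : Fin (n + 1) → Q)) =
          fun i => (Fin.cons 0 (Pi.single i 1) : Fin (n + 1) → Q) := by
        funext i j
        refine Fin.cases ?_ (fun l => ?_) j
        · simp [Fin.tail, Pi.single_apply, (Fin.succ_ne_zero i).symm]
        · simp [Fin.tail, Pi.single_apply]
      obtain ⟨h0, h1⟩ := face_T_shift fun i : Fin n => (Pi.single i 1 : Fin n → Q)
      rw [← cons_top n]
      change face true (T fun i : Fin (n + 1) => (Pi.single i 1 : Fin (n + 1) → Q)) (top n) = 1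
      rw [T, ht, face_opE_true, h0, h1, map_zero, sub_zero, Pi.smul_apply, Pi.single_eq_same,
        one_smul, T_single n]

/-- The top coefficient of the wedge of the rows is the determinant. -/
theorem T_apply_top {n : ℕ} (c : Matrix (Fin n) (Fin n) Q) : T (fun i => c i) (top n) = c.det := by
  let F : AlternatingMap Q (Fin n → Q) Q (Fin n) :=
    { toFun := fun v => T v (top n)
      map_update_add' := fun {inst} v i x y => by
        obtain rfl : inst = instDecidableEqFin n := Subsingleton.elim _ _
        rw [T_update_add, Pi.add_apply]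
      map_update_smul' := fun {inst} v i a x => by
        obtain rfl : inst = instDecidableEqFin n := Subsingleton.elim _ _
        rw [T_update_smul, Pi.smul_apply]
      map_eq_zero_of_eq' := fun v i j h hne => by rw [T_eq_zero_of_eq v i j h hne, Pi.zero_apply] }
  have h := AlternatingMap.eq_smul_basis_det (Pi.basisFun Q (Fin n)) F
  have h1 : F (Pi.basisFun Q (Fin n)) = 1 := by
    change T (fun i => Pi.basisFun Q (Fin n) i) (top n) = 1
    simp only [Pi.basisFun_apply]
    exact T_single n
  rw [h1, one_smul, Pi.basisFun_det] at h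
  exact congr_arg (fun G => G (fun i => c i)) h

theorem T_eq_smul {n : ℕ} (c : Matrix (Fin n) (Fin n) Q) :
    T (fun i => c i) = c.det • (Pi.single (top n) 1 : V Q n) := funext fun b => by
  by_cases hb : b = top n
  · subst hb
    rw [Pi.smul_apply, Pi.single_eq_same, smul_eq_mul, mul_one, T_apply_top]
  · rw [← P_T, P_apply, if_neg (fun h => hb (eq_top_of_wt b h))]
    simp [hb]

/-- The map on exterior algebras induced by a matrix. -/
def Φ {n : ℕ} : ∀ {k : ℕ}, (Fin k → Fin n → Q) → (V Q k →ₗ[Q] V Q n)
  | 0, _ => (LinearMap.proj (O 0)).smulRight (delta Q n)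
  | _ + 1, c => (Φ (Fin.tail c)).comp (face false) +
      (opE (c 0)).comp ((Φ (Fin.tail c)).comp (face true))

theorem opI_Φ {n : ℕ} (g : Fin n → Q) : ∀ {k : ℕ} (c : Fin k → Fin n → Q) (w : V Q k),
    opI g (Φ c w) = Φ c (opI (fun i => ∑ j, c i j * g j) w)
  | 0, _, _ => by simp [Φ, opI, opI_delta]
  | k + 1, c, w => by
      have ht : Fin.tail (fun i => ∑ j, c i j * g j) = fun i => ∑ j, Fin.tail c i j * g j := rfl
      have hIE : opI g (opE (c 0) (Φ (Fin.tail c) (face true w))) =
          (∑ j, c 0 j * g j) • Φ (Fin.tail c) (face true w) -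
            opE (c 0) (opI g (Φ (Fin.tail c) (face true w))) :=
        eq_sub_of_add_eq (opI_opE g (c 0) _)
      simp only [Φ, LinearMap.add_apply, LinearMap.comp_apply, map_add, face_opI_false,
        face_opI_true, ht, map_neg, map_smul, hIE, opI_Φ g (Fin.tail c)]
      module

theorem Φ_apply_O {n : ℕ} : ∀ {k : ℕ} (c : Fin k → Fin n → Q) (w : V Q k),
    Φ c w (O n) = w (O k)
  | 0, _, _ => by simp [Φ, delta]
  | k + 1, c, w => by
      rw [Φ, LinearMap.add_apply, Pi.add_apply, LinearMap.comp_apply, LinearMap.comp_apply,
        opE_apply_O, add_zero, Φ_apply_O]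
      change w (Fin.cons false (O k)) = _
      rw [cons_O]

theorem Φ_delta {n : ℕ} : ∀ {k : ℕ} (c : Fin k → Fin n → Q), Φ c (delta Q k) = delta Q n
  | 0, _ => by simp [Φ, delta]
  | k + 1, c => by
      simp only [Φ, LinearMap.add_apply, LinearMap.comp_apply, face_delta_false, face_delta_true,
        map_zero, add_zero, Φ_delta]

theorem Φ_top {n : ℕ} : ∀ {k : ℕ} (c : Fin k → Fin n → Q),
    Φ c (Pi.single (top k) 1) = T c
  | 0, _ => by simp [Φ, T, Subsingleton.elim (top 0) (O 0)]
  | k + 1, c => by
      have h0 : face false (Pi.single (top (k + 1)) (1 : Q) : V Q (k + 1)) = 0 := funext fun t => by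
        change (Pi.single (top (k + 1)) (1 : Q) : V Q (k + 1)) (Fin.cons false t) = 0
        refine Pi.single_eq_of_ne (fun h => ?_) _
        simpa using congr_fun h 0
      have h1 : face true (Pi.single (top (k + 1)) (1 : Q) : V Q (k + 1)) =
          Pi.single (top k) 1 := funext fun t => by
        change (Pi.single (top (k + 1)) (1 : Q) : V Q (k + 1)) (Fin.cons true t) = _
        by_cases h : t = top k
        · subst h
          rw [cons_top, Pi.single_eq_same, Pi.single_eq_same]
        · rw [Pi.single_eq_of_ne h, Pi.single_eq_of_ne]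
          intro h'
          rw [← cons_top] at h'
          exact h (Fin.cons_inj.1 h').2
      simp only [Φ, LinearMap.add_apply, LinearMap.comp_apply, h0, h1, map_zero, zero_add,
        Φ_top, T]

end Groth.Agent.Lib.Wiebe.Exterior
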