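import Groth.Agent.Lib.Wiebe.Exterior

/-! Wiebe's lemma: the colon ideal of a Koszul-regular sequence in a larger complete intersection. -/

set_option autoImplicit false

universe u

namespace Groth.Agent.Lib.Wiebe.Link

open Groth.Agent.Lib.TorObstruction.Cube Groth.Agent.Lib.Wiebe.Exterior

variable {Q : Type u} [CommRing Q] {n : ℕ}

/-- The Koszul complex of `F` is acyclic in positive degrees. -/
def Acyc (F : Fin n → Q) : Prop :=
  ∀ z : V Q n, opI F z = 0 → z (O n) = 0 → ∃ w, opI F w = z

theorem exists_preimage_O (F : Fin n → Q) {a : Q} (ha : a ∈ Ideal.span (Set.range F)) :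
    ∃ z : V Q n, opI F z = a • delta Q n ∧ z (O n) = 0 := by
  obtain ⟨c, hc⟩ := Ideal.mem_span_range_iff_exists_fun.1 ha
  refine ⟨opE c (delta Q n), ?_, opE_apply_O _ _⟩
  have h := opI_opE F c (delta Q n)
  rw [opI_delta, map_zero, add_zero] at h
  rw [h, hc]

/-- Projection to weights `≤ d`. -/
def low (d : ℕ) : V Q n →ₗ[Q] V Q n := ∑ e ∈ Finset.range (d + 1), P e

theorem low_zero : (low 0 : V Q n →ₗ[Q] V Q n) = P 0 := by simp [low]

theorem low_succ (d : ℕ) : (low (d + 1) : V Q n →ₗ[Q] V Q n) = low d + P (d + 1) := by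
  simp [low, Finset.sum_range_succ _ (d + 1)]

theorem low_apply (d : ℕ) (w : V Q n) (b : Fin n → Bool) :
    low d w b = if wt b ≤ d then w b else 0 := by
  induction d with
  | zero => rw [low_zero, P_apply]; simp [Nat.le_zero]
  | succ d ih =>
      rw [low_succ, LinearMap.add_apply, Pi.add_apply, ih, P_apply]
      by_cases h1 : wt b ≤ d
      · rw [if_pos h1, if_neg (by omega), if_pos (by omega), add_zero]
      · by_cases h2 : wt b = d + 1
        · rw [if_neg h1, if_pos h2, if_pos (by omega), zero_add]
        · rw [if_neg h1, if_neg h2, if_neg (by omega), add_zero]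

theorem low_eq_self {d : ℕ} (h : n ≤ d) (w : V Q n) : low d w = w := funext fun b => by
  rw [low_apply, if_pos ((wt_le b).trans h)]

theorem P_P (d e : ℕ) (w : V Q n) : P d (P e w) = if d = e then P e w else 0 := funext fun b => by
  rw [P_apply]
  by_cases h : d = e
  · subst h; rw [if_pos rfl, P_apply]; split_ifs <;> rfl
  · rw [if_neg h, P_apply]
    split_ifs with h1 h2
    · exact absurd (h1.symm.trans h2) h
    all_goals rfl

theorem low_P_of_le {d e : ℕ} (h : e ≤ d) (w : V Q n) : low d (P e w) = P e w := funext fun b => by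
  rw [low_apply, P_apply]
  split_ifs <;> first | rfl | omega

theorem P_low_of_lt {d e : ℕ} (h : d < e) (w : V Q n) : P e (low d w) = 0 := funext fun b => by
  rw [P_apply, low_apply]
  split_ifs <;> first | rfl | omega

theorem low_low_succ (d : ℕ) (w : V Q n) : low d (low d w) = low d w := funext fun b => by
  rw [low_apply, low_apply]
  split_ifs <;> rfl

theorem opI_low_succ (f : Fin n → Q) (d : ℕ) (w : V Q n) :
    low d (opI f w) = opI f (low (d + 1) w) := by
  induction d with
  | zero => simp only [low_zero, low_succ, LinearMap.add_apply, map_add, P_opI, opI_P_zero, zero_add]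
  | succ d ih =>
      rw [low_succ, LinearMap.add_apply, ih, P_opI, low_succ (d + 1), LinearMap.add_apply, map_add]

theorem opI_mem_low {f : Fin n → Q} {d : ℕ} {w : V Q n} (hw : low (d + 1) w = w) :
    low d (opI f w) = opI f w := by rw [opI_low_succ, hw]

theorem P_zero_eq (w : V Q n) : P 0 w = w (O n) • delta Q n := funext fun t => by
  rw [P_apply, Pi.smul_apply, delta]
  by_cases ht : t = O n
  · subst ht; simp [wt_O]
  · rw [if_neg (fun h => ht (eq_O_of_wt t h)), if_neg ht, smul_zero]

theorem single_P (d : ℕ) (w : V Q n) :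
    P d w = ∑ b, w b • (if wt b = d then Pi.single b 1 else 0 : V Q n) := funext fun t => by
  rw [P_apply, Finset.sum_apply, Finset.sum_eq_single t]
  · split_ifs <;> simp
  · intro b _ hb
    split_ifs <;> simp [Pi.single_eq_of_ne (Ne.symm hb)]
  · simp

/-- Lifting a map along an acyclic complex. -/
theorem exists_lift (F g : Fin n → Q) (hF : Acyc F) {x : Q}
    (hx : ∀ w : V Q n, x * opI g w (O n) ∈ Ideal.span (Set.range F)) :
    ∀ d, ∃ ψ : V Q n →ₗ[Q] V Q n, ψ (delta Q n) = x • delta Q n ∧ ∀ w, low d w = w →
      opI F (ψ w) = ψ (opI g w) ∧ ψ w (O n) = x * w (O n) := by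
  intro d
  induction d with
  | zero =>
      refine ⟨x • LinearMap.id, rfl, fun w hw => ?_⟩
      rw [low_zero] at hw
      rw [← hw, LinearMap.smul_apply, LinearMap.id_apply, map_smul, opI_P_zero, opI_P_zero,
        map_zero, smul_zero]
      exact ⟨rfl, rfl⟩
  | succ d ih =>
      obtain ⟨ψ, hψδ, hψ⟩ := ih
      have hz : ∀ b : Fin n → Bool, ∃ z : V Q n, wt b = d + 1 →
          opI F z = ψ (opI g (Pi.single b 1)) ∧ z (O n) = 0 := by
        intro b
        by_cases hb : wt b = d + 1
        · have hlow : low (d + 1) (Pi.single b (1 : Q) : V Q n) = Pi.single b 1 := funext fun t => by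
            rw [low_apply]
            by_cases ht : t = b
            · subst ht; rw [if_pos hb.le]
            · rw [Pi.single_eq_of_ne ht]; split_ifs <;> rfl
          have hy := hψ (opI g (Pi.single b 1)) (opI_mem_low hlow)
          cases d with
          | zero =>
              obtain ⟨z, hz, hzO⟩ := exists_preimage_O F (hx (Pi.single b 1))
              refine ⟨z, fun _ => ⟨?_, hzO⟩⟩
              rw [hz]
              have h0 : P 0 (opI g (Pi.single b (1 : Q))) = opI g (Pi.single b 1) := by
                rw [← low_zero]; exact opI_mem_low hlow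
              rw [← h0, P_zero_eq, map_smul, hψδ, smul_smul, Pi.smul_apply, delta, if_pos rfl,
                smul_eq_mul, mul_one, mul_comm]
          | succ e =>
              have hO : opI g (Pi.single b (1 : Q)) (O n) = 0 := by
                have h := congr_fun (P_opI g 0 (Pi.single b (1 : Q))) (O n)
                rw [P_apply, if_pos (wt_O n)] at h
                rw [h, show P 1 (Pi.single b (1 : Q) : V Q n) = 0 from funext fun t => by
                  rw [P_apply]
                  by_cases ht : t = b
                  · subst ht; rw [if_neg (by omega)]; rfl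
                  · rw [Pi.single_eq_of_ne ht]; split_ifs <;> rfl, map_zero, Pi.zero_apply]
              obtain ⟨w, hw⟩ := hF (ψ (opI g (Pi.single b 1)))
                (by rw [hy.1, opI_opI, map_zero]) (by rw [hy.2, hO, mul_zero])
              refine ⟨w - w (O n) • delta Q n, fun _ => ⟨?_, ?_⟩⟩
              · rw [map_sub, map_smul, opI_delta, smul_zero, sub_zero, hw]
              · simp [delta]
        · exact ⟨0, fun h => absurd h hb⟩
      choose z hz using hz
      have hδlow : low d (delta Q n) = delta Q n := by
        rw [← P_zero_delta n]; exact low_P_of_le (Nat.zero_le d) _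
      refine ⟨ψ.comp (low d) + (Fintype.linearCombination Q z).comp (P (d + 1)), ?_, fun w hw => ?_⟩
      · rw [LinearMap.add_apply, LinearMap.comp_apply, LinearMap.comp_apply, hδlow, hψδ,
          ← P_zero_delta n, P_P, if_neg (Nat.succ_ne_zero d), map_zero, add_zero]
      have hιlow := opI_mem_low (f := g) hw
      have hPι : P (d + 1) (opI g w) = 0 := by rw [← hιlow, P_low_of_lt (Nat.lt_succ_self d)]
      have hsplit : w = low d w + P (d + 1) w := by
        rw [← LinearMap.add_apply, ← low_succ, hw]
      have hzsum : opI F (Fintype.linearCombination Q z (P (d + 1) w)) =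
          ψ (opI g (P (d + 1) w)) ∧ Fintype.linearCombination Q z (P (d + 1) w) (O n) = 0 := by
        rw [Fintype.linearCombination_apply]
        constructor
        · conv_rhs => rw [single_P, map_sum, map_sum]
          rw [map_sum]
          refine Finset.sum_congr rfl fun b _ => ?_
          rw [map_smul, map_smul, map_smul, P_apply]
          by_cases hb : wt b = d + 1
          · rw [if_pos hb, if_pos hb, (hz b hb).1]
          · rw [if_neg hb, if_neg hb, zero_smul, map_zero, map_zero, smul_zero]
        · rw [Finset.sum_apply]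
          refine Finset.sum_eq_zero fun b _ => ?_
          rw [Pi.smul_apply, P_apply]
          by_cases hb : wt b = d + 1
          · rw [(hz b hb).2, smul_zero]
          · rw [if_neg hb, zero_smul]
      simp only [LinearMap.add_apply, LinearMap.comp_apply, hιlow, hPι, map_zero, add_zero,
        map_add, hzsum.1, Pi.add_apply, hzsum.2]
      obtain ⟨h1, h2⟩ := hψ (low d w) (low_low_succ d w)
      refine ⟨?_, ?_⟩
      · rw [h1, ← map_add, ← map_add, ← hsplit]
      · rw [h2, low_apply, if_pos (by rw [wt_O]; exact Nat.zero_le d)]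

theorem top_ne_O (hn : n ≠ 0) : top n ≠ O n := fun h => hn (by
  have := congr_arg wt h
  rwa [wt_top, wt_O] at this)

theorem exists_homotopy (F : Fin n → Q) (hF : Acyc F) (χ : V Q n →ₗ[Q] V Q n)
    (hc : ∀ w, opI F (χ w) = χ (opI F w)) (hδ : χ (delta Q n) = 0) (hO : ∀ w, χ w (O n) = 0) :
    ∀ d, ∃ h : V Q n →ₗ[Q] V Q n, ∀ w, low d w = w →
      opI F (h w) + h (opI F w) = χ w ∧ h w (O n) = 0 := by
  intro d
  induction d with
  | zero =>
      refine ⟨0, fun w hw => ?_⟩
      rw [low_zero] at hw
      rw [← hw, P_zero_eq]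
      simp [hδ]
  | succ d ih =>
      obtain ⟨h, hh⟩ := ih
      have hz : ∀ b : Fin n → Bool, ∃ z : V Q n, wt b = d + 1 →
          opI F z = χ (Pi.single b 1) - h (opI F (Pi.single b 1)) ∧ z (O n) = 0 := by
        intro b
        by_cases hb : wt b = d + 1
        · have hlow : low (d + 1) (Pi.single b (1 : Q) : V Q n) = Pi.single b 1 := funext fun t => by
            rw [low_apply]
            by_cases ht : t = b
            · subst ht; rw [if_pos hb.le]
            · rw [Pi.single_eq_of_ne ht]; split_ifs <;> rfl
          obtain ⟨hy1, hy2⟩ := hh (opI F (Pi.single b 1)) (opI_mem_low hlow)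
          rw [opI_opI, map_zero, add_zero] at hy1
          obtain ⟨w, hw⟩ := hF (χ (Pi.single b 1) - h (opI F (Pi.single b 1)))
            (by rw [map_sub, hy1, hc, sub_self]) (by rw [Pi.sub_apply, hO, hy2, sub_zero])
          refine ⟨w - w (O n) • delta Q n, fun _ => ⟨?_, ?_⟩⟩
          · rw [map_sub, map_smul, opI_delta, smul_zero, sub_zero, hw]
          · simp [delta]
        · exact ⟨0, fun h => absurd h hb⟩
      choose z hz using hz
      refine ⟨h.comp (low d) + (Fintype.linearCombination Q z).comp (P (d + 1)), fun w hw => ?_⟩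
      have hιlow := opI_mem_low (f := F) hw
      have hPι : P (d + 1) (opI F w) = 0 := by rw [← hιlow, P_low_of_lt (Nat.lt_succ_self d)]
      have hsplit : w = low d w + P (d + 1) w := by
        rw [← LinearMap.add_apply, ← low_succ, hw]
      have hzsum : opI F (Fintype.linearCombination Q z (P (d + 1) w)) =
          χ (P (d + 1) w) - h (opI F (P (d + 1) w)) ∧
            Fintype.linearCombination Q z (P (d + 1) w) (O n) = 0 := by
        rw [Fintype.linearCombination_apply]
        constructor
        · conv_rhs => rw [single_P, map_sum, map_sum, map_sum, ← Finset.sum_sub_distrib]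
          rw [map_sum]
          refine Finset.sum_congr rfl fun b _ => ?_
          rw [map_smul, map_smul, map_smul, map_smul, P_apply]
          by_cases hb : wt b = d + 1
          · rw [if_pos hb, if_pos hb, (hz b hb).1, smul_sub]
          · simp [hb]
        · rw [Finset.sum_apply]
          refine Finset.sum_eq_zero fun b _ => ?_
          rw [Pi.smul_apply, P_apply]
          by_cases hb : wt b = d + 1
          · rw [(hz b hb).2, smul_zero]
          · rw [if_neg hb, zero_smul]
      obtain ⟨h1, h2⟩ := hh (low d w) (low_low_succ d w)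
      simp only [LinearMap.add_apply, LinearMap.comp_apply, hιlow, hPι, map_zero, add_zero,
        map_add, hzsum.1, Pi.add_apply, hzsum.2]
      refine ⟨?_, h2⟩
      have e1 : h (opI F w) = h (opI F (low d w)) + h (opI F (P (d + 1) w)) := by
        rw [← map_add, ← map_add, ← hsplit]
      have e2 : χ w = χ (low d w) + χ (P (d + 1) w) := by rw [← map_add, ← hsplit]
      rw [e1, e2, ← h1]
      abel

/-- Wiebe: if `F = c g` and `F` is Koszul regular, then `(F : g) = (det c) + (F)`. -/
theorem mem_of_mul_mem (F g : Fin n → Q) (c : Matrix (Fin n) (Fin n) Q)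
    (hc : ∀ i, F i = ∑ j, c i j * g j) (hF : Acyc F) {x : Q}
    (hx : ∀ j, x * g j ∈ Ideal.span (Set.range F)) :
    x ∈ Ideal.span {c.det} ⊔ Ideal.span (Set.range F) := by
  rcases Nat.eq_zero_or_pos n with rfl | hn
  · have : c.det = 1 := Matrix.det_isEmpty
    rw [this, Ideal.span_singleton_one, top_sup_eq]
    trivial
  have hx' : ∀ w : V Q n, x * opI g w (O n) ∈ Ideal.span (Set.range F) := by
    intro w
    have hle : Ideal.span (Set.range g) ≤
        Submodule.comap (LinearMap.mul Q Q x) (Ideal.span (Set.range F)) :=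
      Ideal.span_le.2 (by rintro _ ⟨j, rfl⟩; exact hx j)
    exact hle (opI_mem g w (O n))
  obtain ⟨ψ, hψδ, hψ⟩ := exists_lift F g hF hx' n
  have hψ' : ∀ w, opI F (ψ w) = ψ (opI g w) ∧ ψ w (O n) = x * w (O n) :=
    fun w => hψ w (low_eq_self le_rfl w)
  let φ : V Q n →ₗ[Q] V Q n := Φ (fun i => c i)
  have hFc : (fun i => ∑ j, c i j * g j) = F := funext fun i => (hc i).symm
  have hφ : ∀ w, opI g (φ w) = φ (opI F w) := fun w => by
    rw [opI_Φ, hFc]
  let χ : V Q n →ₗ[Q] V Q n := ψ.comp φ - x • LinearMap.id
  obtain ⟨h, hh⟩ := exists_homotopy F hF χ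
    (fun w => by simp [χ, map_sub, map_smul, (hψ' (φ w)).1, hφ])
    (by simp [χ, φ, Φ_delta, hψδ])
    (fun w => by simp [χ, φ, (hψ' _).2, Φ_apply_O]) n
  obtain ⟨h1, -⟩ := hh (Pi.single (top n) 1) (low_eq_self le_rfl _)
  have h2 := congr_fun h1 (top n)
  simp only [χ, φ, LinearMap.sub_apply, LinearMap.comp_apply, LinearMap.smul_apply,
    LinearMap.id_apply, Pi.sub_apply, Pi.add_apply, Pi.smul_apply, Φ_top, T_eq_smul, map_smul,
    opI_apply_top, zero_add, Pi.single_eq_same, smul_eq_mul, mul_one] at h2
  have h3 : h (opI F (Pi.single (top n) 1)) (top n) ∈ Ideal.span (Set.range F) := by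
    rw [← low_eq_self le_rfl (opI F (Pi.single (top n) 1)), low, LinearMap.sum_apply, map_sum,
      Finset.sum_apply]
    refine Submodule.sum_mem _ fun d _ => ?_
    rw [single_P, map_sum, Finset.sum_apply]
    refine Submodule.sum_mem _ fun b _ => ?_
    rw [map_smul, Pi.smul_apply, smul_eq_mul]
    exact Ideal.mul_mem_right _ _ (opI_mem F _ b)
  have : x = c.det * ψ (Pi.single (top n) 1) (top n) - h (opI F (Pi.single (top n) 1)) (top n) := by
    rw [h2]; ring
  rw [this]
  exact sub_mem (Ideal.mem_sup_left (Ideal.mul_mem_right _ _ (Ideal.mem_span_singleton_self _)))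
    (Ideal.mem_sup_right h3)

end Groth.Agent.Lib.Wiebe.Link
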